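import Cfsg.Agent.H668.Five.Rows
import Cfsg.Prelude.Def_Classification2
import Cfsg.Agent.NotCT.Orders
import Cfsg.Agent.S2065
import Cfsg.Agent.S2127
import Cfsg.Agent.S1069
import Cfsg.Agent.StandardComponent.AltAut

/-!
# S4874: the special cases `²G₂(q)`, `J₁`, `A₇` (helper941)
-/

set_option autoImplicit false
set_option maxRecDepth 100000

open Cfsg Cfsg.Agent.H668.Five

namespace Cfsg.Agent.H941.Five

/-- the embedding into the automorphism group -/
theorem conj_injective {G : Type*} [Group G] (S : Subgroup G) [S.Normal]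
    (hC : Subgroup.centralizer (S : Set G) = ⊥) : Function.Injective (MulAut.conjNormal (H := S)) := by
  rw [injective_iff_map_eq_one]
  intro g hg
  have h1 : g ∈ Subgroup.centralizer (S : Set G) := by
    rw [Subgroup.mem_centralizer_iff]
    intro s hs
    have h2 := congrArg (fun f : MulAut S => ((f ⟨s, hs⟩ : S) : G)) hg
    simp only [MulAut.conjNormal_apply, MulAut.one_apply] at h2
    exact (mul_inv_eq_iff_eq_mul.1 h2).symm
  rwa [hC, Subgroup.mem_bot] at h1

theorem card_dvd {G : Type*} [Group G] [Finite G] (S : Subgroup G) [S.Normal]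
    (hC : Subgroup.centralizer (S : Set G) = ⊥) {X : Type*} [Group X] [Finite X] (e : ↥S ≃* X) :
    Nat.card G ∣ Nat.card X * Nat.card (Cfsg.Out X) := by
  have h1 : Nat.card G ∣ Nat.card (MulAut X) := by
    rw [← Nat.card_congr (MulAut.congr e).toEquiv]
    exact Subgroup.card_dvd_of_injective _ (conj_injective S hC)
  refine h1.trans ?_
  rw [Subgroup.card_eq_card_quotient_mul_card_subgroup (Inn X), mul_comm]
  refine mul_dvd_mul_right ?_ _
  exact Subgroup.card_range_dvd (MulAut.conj : X →* MulAut X)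

theorem special_j1 {G : Type*} [Group G] [Finite G] (S : Subgroup G) [S.Normal]
    (hC : Subgroup.centralizer (S : Set G) = ⊥) (h : Spor.IsoJ1 ↥S) (h16 : 16 ∣ Nat.card G) :
    Six G := by
  exfalso
  have hc := NotCT.Orders.j1 h
  obtain ⟨e⟩ := h
  have hf : Finite ↥Spor.J1 := Finite.of_equiv _ e.toEquiv
  have h1 := card_dvd S hC e
  rw [Cfsg.Agent.S2065.result, mul_one, ← Nat.card_congr e.toEquiv, hc] at h1
  have := h16.trans h1
  revert this
  decide

theorem mod_eight (m : ℕ) : 3 ^ (2 * m + 1) % 8 = 3 := by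
  induction m with
  | zero => norm_num
  | succ k ih =>
    have : 3 ^ (2 * (k + 1) + 1) = 9 * 3 ^ (2 * k + 1) := by ring
    rw [this]
    omega

theorem special_ree {G : Type*} [Group G] [Finite G] (S : Subgroup G) [S.Normal]
    (hC : Subgroup.centralizer (S : Set G) = ⊥) (h : Lie.IsoRee ↥S) (h16 : 16 ∣ Nat.card G) :
    Six G := by
  exfalso
  obtain ⟨F, i1, i2, m, hm, hF, ⟨e⟩⟩ := h
  have hf : Finite ↥(Cfsg.Lie.twistedG2 F (3 ^ m)) := Finite.of_equiv _ e.toEquiv
  have h1 := card_dvd S hC e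
  rw [Cfsg.Agent.S2127.result hm hF, Cfsg.Agent.S1069.result hF] at h1
  have h2 := h16.trans h1
  have h3 : Nat.Coprime 16 (2 * m + 1) := Nat.Coprime.pow_left 4 (by simp : Nat.Coprime 2 (2 * m + 1))
  have h64 := h3.dvd_of_dvd_mul_right h2
  have h8 := mod_eight m
  generalize 3 ^ (2 * m + 1) = q at h64 h8
  obtain ⟨t, rfl⟩ : ∃ t, q = t + 1 := ⟨q - 1, by omega⟩
  rw [Nat.add_sub_cancel] at h64
  have h1 : ((t + 1) ^ 3 * t * ((t + 1) ^ 3 + 1)) % 16 = 0 :=
    Nat.mod_eq_zero_of_dvd (dvd_trans (by norm_num) h64)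
  have h2 : t % 16 = 2 ∨ t % 16 = 10 := by omega
  rcases h2 with h2 | h2 <;> simp [Nat.mul_mod, Nat.pow_mod, Nat.add_mod, h2] at h1

section a7

open Equiv

/-- the permutations fixing 0 and 1 -/
def K : Subgroup (Perm (Fin 7)) where
  carrier := {g | g 0 = 0 ∧ g 1 = 1}
  mul_mem' := fun {a b} ha hb => ⟨by rw [Perm.mul_apply, hb.1, ha.1], by rw [Perm.mul_apply, hb.2, ha.2]⟩
  one_mem' := ⟨rfl, rfl⟩
  inv_mem' := fun {a} ha => ⟨by rw [Perm.inv_eq_iff_eq, ha.1], by rw [Perm.inv_eq_iff_eq, ha.2]⟩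

def vs : List (Perm (Fin 7)) := [1, swap 2 3 * swap 4 5, swap 2 4 * swap 3 5, swap 2 5 * swap 3 4]

/-- a 3-cycle -/
def hh : Perm (Fin 7) := swap 2 3 * swap 3 4

/-- a double transposition -/
def vv : Perm (Fin 7) := swap 2 3 * swap 4 5

theorem vs_mul : ∀ a ∈ vs, ∀ b ∈ vs, a * b ∈ vs := by decide +kernel
theorem vs_inv : ∀ a ∈ vs, a⁻¹ ∈ vs := by decide +kernel
theorem vs_one : (1 : Perm (Fin 7)) ∈ vs := by decide +kernel
theorem vs_sq : ∀ a ∈ vs, a * a = 1 := by decide +kernel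
theorem vs_conj : ∀ a ∈ vs, hh * a * hh⁻¹ ∈ vs := by decide +kernel
theorem vv_mem : vv ∈ vs := by decide +kernel
theorem vv_K : vv 0 = 0 ∧ vv 1 = 1 := by decide +kernel
theorem hh_K : hh 0 = 0 ∧ hh 1 = 1 := by decide +kernel
theorem vv_mem_K : vv ∈ K := vv_K
theorem hh_mem_K : hh ∈ K := hh_K
theorem hh_three : hh ^ 3 = 1 ∧ hh ≠ 1 := by decide +kernel
theorem hh_vv : hh * vv ≠ vv * hh := by decide +kernel

def Q : Subgroup K where
  carrier := {k | (k : Perm (Fin 7)) ∈ vs}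
  mul_mem' := fun {a b} ha hb => vs_mul (a : Perm (Fin 7)) ha (b : Perm (Fin 7)) hb
  one_mem' := vs_one
  inv_mem' := fun {a} ha => vs_inv (a : Perm (Fin 7)) ha

theorem mem_Q {k : K} : k ∈ Q ↔ (k : Perm (Fin 7)) ∈ vs := Iff.rfl

theorem not_compl_K : ¬ HasNormalPComplement 2 ↥K := by
  have h3 : orderOf hh = 3 := orderOf_eq_prime hh_three.1 hh_three.2
  refine not_compl_of_act Q ?_ ⟨hh, hh_mem_K⟩ ?_ ?_ (a := ⟨vv, vv_mem_K⟩) ?_ ?_
  · intro g
    refine ⟨1, ?_⟩
    apply Subtype.ext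
    apply Subtype.ext
    rw [pow_one, pow_two]
    exact vs_sq _ (mem_Q.1 g.2)
  · rw [Subgroup.orderOf_mk, h3]
    exact ⟨1, rfl⟩
  · intro a ha
    rw [mem_Q] at ha ⊢
    exact vs_conj _ ha
  · rw [mem_Q]
    exact vv_mem
  · intro h
    exact hh_vv (congrArg Subtype.val h)

theorem nn_swap : NN (swap 0 1 : Perm (Fin 7)) := by
  refine NN.of_le (K := K) not_compl_K ?_
  intro g hg
  obtain ⟨h0, h1⟩ := hg
  rw [← mul_inv_eq_iff_eq_mul]
  have := Equiv.swap_apply_apply g 0 1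
  rw [h0, h1] at this
  exact this.symm

theorem p1 : (swap 0 1 : Perm (Fin 7)) ^ 2 = 1 ∧ (swap 0 1 : Perm (Fin 7)) ≠ 1 := by decide +kernel
theorem p2 : (swap 0 1 * swap 2 3 : Perm (Fin 7)) ^ 2 = 1 ∧ (swap 0 1 * swap 2 3 : Perm (Fin 7)) ≠ 1 := by decide +kernel
theorem p3 : ¬ (swap 0 1 * swap 1 2 * swap 2 3 : Perm (Fin 7)) ^ 2 ^ 1 = 1 ∧
    (swap 0 1 * swap 1 2 * swap 2 3 : Perm (Fin 7)) ^ 2 ^ (1 + 1) = 1 := by decide +kernel
theorem p4 : ¬ Perm.sign (swap 0 1 : Perm (Fin 7)) = Perm.sign (swap 0 1 * swap 2 3 : Perm (Fin 7)) := by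
  decide +kernel

theorem special_a7 {G : Type*} [Group G] [Finite G] (S : Subgroup G) [S.Normal]
    (hC : Subgroup.centralizer (S : Set G) = ⊥)
    (e : Nonempty (↥S ≃* alternatingGroup (Fin 7)))
    (h16 : 16 ∣ Nat.card G) : Six G := by
  obtain ⟨e⟩ := e
  obtain ⟨ψ, hψ⟩ := StandardComponent.AltAut.exists_autHom 7 le_rfl
  have hinj : Function.Injective ψ := by
    intro a b hab
    ext x : 1
    apply Subtype.ext
    rw [hψ, hψ, hab]
  let f : G →* Perm (Fin 7) := (ψ.comp (MulAut.congr e).toMonoidHom).comp (MulAut.conjNormal (H := S))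
  have hf : Function.Injective f := (hinj.comp (MulAut.congr e).injective).comp (conj_injective S hC)
  have hP : Nat.card (Perm (Fin 7)) = 5040 := by
    rw [Nat.card_perm, Nat.card_eq_fintype_card, Fintype.card_fin]
    rfl
  have hA : Nat.card (alternatingGroup (Fin 7)) = 2520 := by
    rw [nat_card_alternatingGroup, Nat.card_eq_fintype_card, Fintype.card_fin]
    rfl
  have h1 : Nat.card G ∣ 5040 := by
    rw [← hP]
    exact Subgroup.card_dvd_of_injective f hf
  have h2 : 2520 ∣ Nat.card G := by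
    rw [← hA, ← Nat.card_congr e.toEquiv]
    exact Subgroup.card_subgroup_dvd_card S
  have h3 : Nat.card G = 5040 := by
    obtain ⟨k, hk⟩ := h2
    rw [hk] at h1 h16
    have hk2 : k ∣ 2 := by
      have : 2520 * k ∣ 2520 * 2 := h1
      exact Nat.dvd_of_mul_dvd_mul_left (by norm_num) this
    rcases (Nat.dvd_prime Nat.prime_two).1 hk2 with rfl | rfl
    · exact absurd h16 (by norm_num)
    · rw [hk]
  have hbij : Function.Bijective f := by
    rw [Nat.bijective_iff_injective_and_card]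
    exact ⟨hf, by rw [h3, hP]⟩
  let E : Perm (Fin 7) ≃* G := (MulEquiv.ofBijective f hbij).symm
  intro M hM
  have o1 : orderOf (E (swap 0 1)) = 2 := by
    rw [MulEquiv.orderOf_eq]
    exact orderOf_eq_prime p1.1 p1.2
  have o2 : orderOf (E (swap 0 1 * swap 2 3)) = 2 := by
    rw [MulEquiv.orderOf_eq]
    exact orderOf_eq_prime p2.1 p2.2
  have o3 : orderOf (E (swap 0 1 * swap 1 2 * swap 2 3)) = 4 := by
    rw [MulEquiv.orderOf_eq]
    exact orderOf_eq_prime_pow (p := 2) (n := 1) p3.1 p3.2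
  refine six_of_three hM (x := E (swap 0 1)) (y := E (swap 0 1 * swap 2 3)) (z := E (swap 0 1 * swap 1 2 * swap 2 3))
    ⟨1, by rw [o1]; rfl⟩ (ne_one_of_orderOf (k := 0) (by rw [o1]; rfl)) ⟨1, by rw [o2]; rfl⟩
    (ne_one_of_orderOf (k := 0) (by rw [o2]; rfl)) ⟨2, by rw [o3]; rfl⟩ (ne_one_of_orderOf (k := 1) (by rw [o3]; rfl))
    ?_ ?_ ?_ (nn_swap.of_mulEquiv E)
  · intro h
    obtain ⟨c, hc⟩ := isConj_iff.1 h
    have h4 := congrArg E.symm hc
    rw [map_mul, map_mul, map_inv, E.symm_apply_apply, E.symm_apply_apply] at h4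
    have h5 := congrArg Perm.sign h4
    rw [map_mul, map_mul, map_inv, mul_comm (Perm.sign (E.symm c)), mul_inv_cancel_right] at h5
    exact p4 h5
  · intro h
    have := orderOf_eq_of_isConj h
    rw [o1, o3] at this
    omega
  · intro h
    have := orderOf_eq_of_isConj h
    rw [o2, o3] at this
    omega

end a7

end Cfsg.Agent.H941.Five
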